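import Groth.Agent.ZeroSch.Basic
import Groth.Agent.WeakAssLib.Basic
import Groth.Prelude.Def_Formal
import Mathlib.AlgebraicGeometry.Morphisms.Smooth
import Mathlib.AlgebraicGeometry.Morphisms.FiniteType
import Mathlib.AlgebraicGeometry.IdealSheaf.Subscheme

/-!
Zero schemes over a field: charts and linear combinations of sections.
-/

set_option autoImplicit false
set_option backward.isDefEq.respectTransparency false

universe u

open CategoryTheory CategoryTheory.Limits AlgebraicGeometry TopologicalSpace Opposite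
open Groth.Agent.QC (res resO res_res res_smul resO_resO res_self resO_self app_res)
open TMul (IsGen val res_val)
open Groth.Agent.WeakAssLib (mgerm mgerm_smul mgerm_res)

noncomputable section

namespace ZeroSch

section Val

variable {X : Scheme.{u}} {L M : X.Modules}

theorem val_add (s t : Coh.structureModule X ⟶ L) (U : X.Opens) : val (s + t) U = val s U + val t U := rfl

theorem val_zero (U : X.Opens) : val (0 : Coh.structureModule X ⟶ L) U = 0 := rfl

theorem val_sum {ι : Type} (T : Finset ι) (s : ι → (Coh.structureModule X ⟶ L)) (U : X.Opens) :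
    val (∑ i ∈ T, s i) U = ∑ i ∈ T, val (s i) U := by
  classical
  induction T using Finset.induction_on with
  | empty => rw [Finset.sum_empty, Finset.sum_empty, val_zero]
  | insert a T ha ih => rw [Finset.sum_insert ha, Finset.sum_insert ha, val_add, ih]

end Val

section Over

variable {k : Type u} [Field k] {X : Scheme.{u}} [X.Over (Spec (CommRingCat.of k))] {L : X.Modules}

/-- Constants as functions on an open. -/
def cst (k : Type u) [Field k] {X : Scheme.{u}} [X.Over (Spec (CommRingCat.of k))] (U : X.Opens) : k →+* Γ(X, U) :=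
  (resO X (le_top : U ≤ ⊤)).comp (Coh.toGlobal (X ↘ Spec (CommRingCat.of k)))

theorem cst_res {V U : X.Opens} (h : V ≤ U) (a : k) : resO X h (cst k U a) = cst k V a :=
  resO_resO h (le_top : U ≤ ⊤) _

theorem val_smulMod_comp (a : k) (s : Coh.structureModule X ⟶ L) (U : X.Opens) :
    val (Formal.smulMod k (Coh.structureModule X) a ≫ s) U = cst k U a • val s U := by
  refine Eq.trans ?_ (TMul.app_eq_smul s (cst k U a))
  show s.app U _ = s.app U _
  congr 1
  exact mul_one (M := Γ(X, U)) (cst k U a)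

theorem val_comb {m : ℕ} (f : Coh.structureModule X ⟶ L) (s : Fin m → (Coh.structureModule X ⟶ L)) (a : Fin m → k)
    (U : X.Opens) :
    val (f + ∑ i, Formal.smulMod k (Coh.structureModule X) (a i) ≫ s i) U =
      val f U + ∑ i, cst k U (a i) • val (s i) U := by
  rw [val_add, val_sum]
  congr 1
  exact Finset.sum_congr rfl fun i _ => val_smulMod_comp _ _ _

theorem specMap_cst {U : X.Opens} (hU : IsAffineOpen U) :
    Spec.map (CommRingCat.ofHom (cst k U)) = hU.fromSpec ≫ (X ↘ Spec (CommRingCat.of k)) := by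
  rw [← IsAffineOpen.SpecMap_appLE_fromSpec (X ↘ Spec (CommRingCat.of k)) (isAffineOpen_top _) hU
    (le_top.trans (Scheme.Hom.preimage_top _).ge), IsAffineOpen.fromSpec_top, Scheme.isoSpec_Spec_inv, ← Spec.map_comp]
  rfl

/-- Sections over affine opens are of finite type. -/
theorem finiteType_cst [LocallyOfFiniteType (X ↘ Spec (CommRingCat.of k))] {U : X.Opens} (hU : IsAffineOpen U) :
    (cst k U).FiniteType := by
  have h : LocallyOfFiniteType (Spec.map (CommRingCat.ofHom (cst k U))) := by rw [specMap_cst hU]; infer_instance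
  exact (HasRingHomProperty.Spec_iff (P := @LocallyOfFiniteType)).1 h

theorem formallySmooth_cst [Smooth (X ↘ Spec (CommRingCat.of k))] {U : X.Opens} (hU : IsAffineOpen U) :
    (cst k U).Smooth := by
  have h : Smooth (Spec.map (CommRingCat.ofHom (cst k U))) := by rw [specMap_cst hU]; infer_instance
  exact (HasRingHomProperty.Spec_iff (P := @Smooth)).1 h

/-- A closed subscheme is smooth if it is so on an affine cover. -/
theorem smooth_subscheme (I : X.IdealSheafData) {ι : Type*} (W : ι → X.affineOpens)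
    (hcov : ∀ x : X, ∃ i, x ∈ (W i).1)
    (h : ∀ i, ((Ideal.Quotient.mk (I.ideal (W i))).comp (cst k (W i).1)).Smooth) :
    Smooth (I.subschemeι ≫ (X ↘ Spec (CommRingCat.of k))) := by
  choose j hj using hcov
  let 𝒰 : I.subscheme.OpenCover := Scheme.Cover.mkOfCovers I.subscheme
    (fun x => I.subschemeCover.X (W (j (I.subschemeι x))) |> fun R => Spec R)
    (fun x => I.subschemeCover.f (W (j (I.subschemeι x))))
    (fun x => ⟨x, by
      have := (I.opensRange_subschemeCover_map (W (j (I.subschemeι x)))).ge (show x ∈ _ from hj _)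
      exact this⟩)
  refine (IsZariskiLocalAtSource.iff_of_openCover (P := @Smooth) 𝒰).2 fun x => ?_
  have e : 𝒰.f x ≫ I.subschemeι ≫ (X ↘ Spec (CommRingCat.of k)) =
      Spec.map (CommRingCat.ofHom ((Ideal.Quotient.mk (I.ideal (W (j (I.subschemeι x))))).comp
        (cst k (W (j (I.subschemeι x))).1))) := by
    show I.subschemeCover.f _ ≫ _ ≫ _ = _
    rw [← Category.assoc, I.subschemeCover_map_subschemeι, I.glueDataObjι_ι, Category.assoc, ← specMap_cst,
      ← Spec.map_comp]
    rfl
  rw [e]
  exact (HasRingHomProperty.Spec_iff (P := @Smooth)).2 (h _)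

end Over

section Stalk

variable {X : Scheme.{u}} {L : X.Modules} {U : X.Opens} {e : Γ(L, U)}

/-- The germ of a generator is free. -/
theorem eq_of_germ_smul (he : IsGen e) {x : X} (hx : x ∈ U) {z w : X.presheaf.stalk x}
    (h : z • mgerm L hx e = w • mgerm L hx e) : z = w := by
  rw [← sub_eq_zero, ← sub_smul] at h
  rw [← sub_eq_zero]
  obtain ⟨V, hxV, c, hc⟩ := X.presheaf.exists_germ_eq (z - w)
  rw [← hc] at h ⊢
  have hres : X.presheaf.germ V x hxV c =
      X.presheaf.germ (V ⊓ U) x ⟨hxV, hx⟩ (resO X (inf_le_left : V ⊓ U ≤ V) c) :=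
    (X.presheaf.germ_res_apply (homOfLE inf_le_left) x ⟨hxV, hx⟩ c).symm
  rw [hres, ← mgerm_res L (inf_le_right : V ⊓ U ≤ U) ⟨hxV, hx⟩ e, ← mgerm_smul] at h
  obtain ⟨W, hxW, i, i', hW⟩ := TopCat.Presheaf.germ_eq L.presheaf x (U := V ⊓ U) (V := V ⊓ U) ⟨hxV, hx⟩ ⟨hxV, hx⟩
    (resO X inf_le_left c • res L inf_le_right e) 0 (h.trans (map_zero _).symm)
  have hWV : W ≤ V ⊓ U := leOfHom i
  have h0 : res L hWV (resO X inf_le_left c • res L inf_le_right e) = 0 := hW.trans (map_zero _)
  rw [res_smul, res_res, resO_resO] at h0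
  have : resO X (hWV.trans inf_le_left) c = 0 := (he W (hWV.trans inf_le_right)).1 (h0.trans (zero_smul _ _).symm)
  have e2 := congrArg (X.presheaf.germ W x hxW) this
  rw [map_zero] at e2
  rwa [show X.presheaf.germ W x hxW (resO X (hWV.trans inf_le_left) c) = X.presheaf.germ V x hxV c from
    X.presheaf.germ_res_apply _ x hxW c] at e2

theorem exists_smul_germ (he : IsGen e) {x : X} (hx : x ∈ U) (z : L.presheaf.stalk x) :
    ∃ r : X.presheaf.stalk x, z = r • mgerm L hx e := by
  obtain ⟨V, hxV, s, rfl⟩ := L.presheaf.exists_germ_eq z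
  obtain ⟨c, hc⟩ := (he (V ⊓ U) inf_le_right).2 (res L inf_le_left s)
  refine ⟨X.presheaf.germ (V ⊓ U) x ⟨hxV, hx⟩ c, ?_⟩
  rw [← mgerm_res L (inf_le_right : V ⊓ U ≤ U) ⟨hxV, hx⟩ e, ← mgerm_smul]
  exact (mgerm_res L (inf_le_left : V ⊓ U ≤ V) ⟨hxV, hx⟩ s).symm.trans (congrArg _ hc.symm)

/-- Membership in `J • L_x` in terms of a generator. -/
theorem mem_ideal_smul_iff (he : IsGen e) {x : X} (hx : x ∈ U) (J : Ideal (X.presheaf.stalk x))
    (z : X.presheaf.stalk x) :
    z • mgerm L hx e ∈ J • (⊤ : Submodule (X.presheaf.stalk x) (L.presheaf.stalk x)) ↔ z ∈ J := by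
  refine ⟨fun h => ?_, fun h => Submodule.smul_mem_smul h trivial⟩
  suffices ∀ v ∈ J • (⊤ : Submodule (X.presheaf.stalk x) (L.presheaf.stalk x)), ∃ c ∈ J, v = c • mgerm L hx e by
    obtain ⟨c, hc, e1⟩ := this _ h
    rwa [eq_of_germ_smul he hx e1]
  intro v hv
  induction hv using Submodule.smul_induction_on' with
  | smul a ha n _ =>
    obtain ⟨r, rfl⟩ := exists_smul_germ he hx n
    exact ⟨a * r, J.mul_mem_right _ ha, (mul_smul _ _ _).symm⟩
  | add a _ b _ ha hb =>
    obtain ⟨c, hc, rfl⟩ := ha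
    obtain ⟨d, hd, rfl⟩ := hb
    exact ⟨c + d, J.add_mem hc hd, (add_smul _ _ _).symm⟩

end Stalk

end ZeroSch
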