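import Groth.Agent.TMul.Power
import Groth.Agent.TMul.AmpleBasis
import Groth.Agent.TMul.RelAmple
import Groth.Prelude.Def_PicF2
import Groth.Prelude.Def_FlatMod2

/-!
Zero schemes of sections of invertible modules.
-/

set_option autoImplicit false
set_option backward.isDefEq.respectTransparency false

universe u

open CategoryTheory CategoryTheory.Limits AlgebraicGeometry TopologicalSpace Opposite
open Groth.Agent.QC (res resO res_res res_smul resO_resO res_self resO_self app_res)
open TMul (IsGen val res_val)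

noncomputable section

namespace ZeroSch

variable {X : Scheme.{u}} {L : X.Modules}

/-- Rank one locally free modules are invertible. -/
theorem isInvertible_of_rankOne (h : FlatMod.IsFinLocFreeOfRank 1 L) : PicF.IsInvertible L := fun x => by
  obtain ⟨U, hx, ⟨φ⟩⟩ := h x
  exact ⟨U, hx, ⟨φ ≪≫ coproductUniqueIso _⟩⟩

variable (s : Coh.structureModule X ⟶ L)

/-- Membership in the ideal of the zero scheme. -/
theorem mem_zeroIdealOn {U : X.Opens} (a : Γ(X, U)) :
    a ∈ PicF2.zeroIdealOn L s U ↔ ∀ m : Γ(L, U), ∃ b : Γ(X, U), a • m = b • val s U := Iff.rfl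

/-- In terms of a generator. -/
theorem zeroIdealOn_eq_span {U : X.Opens} {e : Γ(L, U)} (he : IsGen e) {c : Γ(X, U)} (hc : val s U = c • e) :
    (PicF2.zeroIdealOn L s U : Ideal Γ(X, U)) = Ideal.span {c} := by
  have hb : Function.Bijective fun t : Γ(X, U) => t • e := by simpa only [res_self] using he U le_rfl
  refine @Ideal.ext Γ(X, U) _ _ _ fun a => ?_
  rw [Ideal.mem_span_singleton']
  constructor
  · intro ha
    obtain ⟨b, hb'⟩ := (mem_zeroIdealOn s a).1 ha e
    refine ⟨b, hb.1 ?_⟩
    show (b * c) • e = a • e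
    rw [mul_smul, ← hc, hb']
  · rintro ⟨b, rfl⟩
    refine (mem_zeroIdealOn s _).2 fun m => ?_
    obtain ⟨t, rfl⟩ := hb.2 m
    exact ⟨b * t, by rw [hc, smul_smul, smul_smul, mul_right_comm]⟩

theorem unit_smul_cancel {V : X.Opens} {u : Γ(X, V)} (hu : IsUnit u) {x y : Γ(L, V)} (h : u • x = u • y) :
    x = y := hu.smul_left_cancel.1 h

theorem res_pow_smul {U : X.Opens} (r : Γ(X, U)) (n : ℕ) (m : Γ(L, U)) :
    res L (X.basicOpen_le r) (r ^ n • m) = (resO X (X.basicOpen_le r) r) ^ n • res L (X.basicOpen_le r) m := by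
  rw [res_smul, map_pow]

theorem isUnit_res {U : X.Opens} (r : Γ(X, U)) : IsUnit (resO X (X.basicOpen_le r) r) :=
  RingedSpace.isUnit_res_basicOpen _ r

/-- The sections over an affine open of an invertible module are finitely generated. -/
theorem exists_finset_span (hL : PicF.IsInvertible L) {U : X.Opens} (hU : IsAffineOpen U) :
    ∃ S : Finset Γ(L, U), Submodule.span Γ(X, U) (S : Set Γ(L, U)) = ⊤ := by
  classical
  haveI : L.IsQuasicoherent := TMul.isQCoh_of_isInvertible hL
  have hloc : Groth.Agent.QC.IsLoc L U := Groth.Agent.QC.isLoc_of_isQCoh hU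
  have hcov : ∀ x : U, ∃ (r : Γ(X, U)), (x : X) ∈ X.basicOpen r ∧ ∃ m : Γ(L, U),
      IsGen (res L (X.basicOpen_le r) m) := by
    intro x
    obtain ⟨V, e, hxV, he⟩ := TMul.exists_isGen hL (x : X)
    obtain ⟨r, hrV, hxr⟩ := hU.exists_basicOpen_le ⟨(x : X), hxV⟩ x.2
    obtain ⟨n, m, hm⟩ := hloc.exists_extend r (res L hrV e)
    refine ⟨r, hxr, m, ?_⟩
    rw [hm]
    exact TMul.isGen_smul (he.res hrV) ((isUnit_res r).pow n)
  choose r hxr m hm using hcov
  have hspan : Ideal.span (Set.range r) = ⊤ := by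
    rw [← IsAffineOpen.self_le_iSup_basicOpen_iff hU]
    exact fun x hx => Opens.mem_iSup.2 ⟨⟨r ⟨x, hx⟩, ⟨_, rfl⟩⟩, hxr _⟩
  obtain ⟨T, hT, hT'⟩ := Submodule.mem_span_finite_of_mem_span
    (show (1 : Γ(X, U)) ∈ Submodule.span _ (Set.range r) from (Ideal.eq_top_iff_one _).1 hspan)
  choose pre hpre using fun t : T => hT t.2
  refine ⟨Finset.univ.image fun t : T => m (pre t), eq_top_iff.2 fun y _ => ?_⟩
  let N := Submodule.span Γ(X, U) (↑(Finset.univ.image fun t : T => m (pre t)) : Set Γ(L, U))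
  let A : Ideal Γ(X, U) := N.comap (LinearMap.toSpanSingleton _ _ y)
  have hA : ∀ t ∈ T, t ∈ A.radical := by
    intro t ht
    have hp : r (pre ⟨t, ht⟩) = t := hpre ⟨t, ht⟩
    rw [← hp]
    generalize hx : pre ⟨t, ht⟩ = z
    have hb : Function.Bijective fun c : Γ(X, X.basicOpen (r z)) => c • res L (X.basicOpen_le (r z)) (m z) := by
      simpa only [res_self] using hm z (X.basicOpen (r z)) le_rfl
    obtain ⟨c, hc⟩ := hb.2 (res L (X.basicOpen_le (r z)) y)
    haveI := hU.isLocalization_basicOpen (r z)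
    obtain ⟨p, b, hpb⟩ := IsLocalization.Away.surj (r z) c
    replace hpb : c * resO X (X.basicOpen_le (r z)) (r z) ^ p = resO X (X.basicOpen_le (r z)) b := hpb
    have h0 : res L (X.basicOpen_le (r z)) ((r z) ^ p • y - b • m z) = 0 := by
      rw [map_sub, res_pow_smul, res_smul, ← hc, smul_smul, mul_comm, hpb, sub_self]
    obtain ⟨q, hq⟩ := hloc.exists_pow_smul_eq_zero (r z) _ h0
    refine ⟨q + p, ?_⟩
    show (r z) ^ (q + p) • y ∈ N
    rw [smul_sub, sub_eq_zero, smul_smul, ← pow_add] at hq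
    rw [hq]
    refine N.smul_mem _ (N.smul_mem _ (Submodule.subset_span ?_))
    exact Finset.mem_coe.2 (Finset.mem_image.2 ⟨⟨t, ht⟩, Finset.mem_univ _, by rw [hx]⟩)
  have htop : A = ⊤ := Ideal.radical_eq_top.1 ((Ideal.eq_top_iff_one _).2 ((Submodule.span_le.2 hA) hT'))
  have : (1 : Γ(X, U)) ∈ A := htop ▸ Submodule.mem_top
  have : (1 : Γ(X, U)) • y ∈ N := this
  rwa [one_smul] at this

/-- The ideals `zeroIdealOn` are compatible with localisation. -/
theorem map_zeroIdealOn (hL : PicF.IsInvertible L) (U : X.affineOpens) (r : Γ(X, U)) :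
    (PicF2.zeroIdealOn L s U.1 : Ideal Γ(X, U)).map (X.presheaf.map (homOfLE (X.basicOpen_le r)).op).hom =
      (PicF2.zeroIdealOn L s (X.basicOpen r) : Ideal Γ(X, X.basicOpen r)) := by
  haveI : L.IsQuasicoherent := TMul.isQCoh_of_isInvertible hL
  have hloc : Groth.Agent.QC.IsLoc L U.1 := Groth.Agent.QC.isLoc_of_isQCoh U.2
  have hr := X.basicOpen_le r
  apply le_antisymm
  · refine Ideal.map_le_iff_le_comap.2 fun a ha => (mem_zeroIdealOn s _).2 fun m' => ?_
    obtain ⟨n, m, hm⟩ := hloc.exists_extend r m'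
    obtain ⟨b, hb⟩ := (mem_zeroIdealOn s a).1 ha m
    have hu := (isUnit_res r).pow n
    refine ⟨(hu.unit⁻¹ : (Γ(X, X.basicOpen r))ˣ) * resO X hr b, unit_smul_cancel hu ?_⟩
    have e := congrArg (res L hr) hb
    rw [res_smul, res_smul, res_val, hm, smul_comm] at e
    show (resO X hr r) ^ n • resO X hr a • m' = _
    rw [e, smul_smul, ← mul_assoc, IsUnit.mul_val_inv, one_mul]
  · intro a' ha'
    haveI := U.2.isLocalization_basicOpen r
    obtain ⟨p, a, hpa⟩ := IsLocalization.Away.surj r a'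
    replace hpa : a' * resO X hr r ^ p = resO X hr a := hpa
    have hmem : resO X hr a ∈ (PicF2.zeroIdealOn L s (X.basicOpen r) : Ideal Γ(X, X.basicOpen r)) := by
      rw [← hpa]; exact Ideal.mul_mem_right _ _ ha'
    obtain ⟨S, hS⟩ := exists_finset_span hL U.2
    let N : Submodule Γ(X, U) Γ(L, U) := Submodule.span _ {val s U.1}
    have hN : ∀ m : Γ(L, U), ∃ q, r ^ q • a • m ∈ N := fun m => by
      obtain ⟨b', hb'⟩ := (mem_zeroIdealOn s _).1 hmem (res L hr m)
      obtain ⟨q, b, hqb⟩ := IsLocalization.Away.surj r b'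
      replace hqb : b' * resO X hr r ^ q = resO X hr b := hqb
      have h0 : res L hr (r ^ q • a • m - b • val s U.1) = 0 := by
        rw [map_sub, res_pow_smul, res_smul, res_smul, hb', res_val, smul_smul, mul_comm, hqb, sub_self]
      obtain ⟨q', hq'⟩ := hloc.exists_pow_smul_eq_zero r _ h0
      refine ⟨q' + q, ?_⟩
      rw [smul_sub, sub_eq_zero, smul_smul, ← pow_add] at hq'
      rw [hq']
      exact N.smul_mem _ (N.smul_mem _ (Submodule.mem_span_singleton_self _))
    choose q hq using hN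
    let Q := S.sup q
    have hQ : r ^ Q * a ∈ (PicF2.zeroIdealOn L s U.1 : Ideal Γ(X, U)) := by
      refine (mem_zeroIdealOn s _).2 fun m => ?_
      have hm : (r ^ Q * a) • m ∈ N := by
        have hmS : m ∈ Submodule.span Γ(X, U) (S : Set Γ(L, U)) := hS ▸ Submodule.mem_top
        induction hmS using Submodule.span_induction with
        | mem z hz =>
          rw [mul_smul, show Q = (Q - q z) + q z by
            have : q z ≤ Q := Finset.le_sup hz
            omega, pow_add, mul_smul]
          exact N.smul_mem _ (hq z)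
        | zero => rw [smul_zero]; exact N.zero_mem
        | add x y _ _ hx hy => rw [smul_add]; exact N.add_mem hx hy
        | smul t x _ hx => rw [smul_comm]; exact N.smul_mem t hx
      obtain ⟨b, hb⟩ := Submodule.mem_span_singleton.1 hm
      exact ⟨b, hb.symm⟩
    have hu := (isUnit_res r).pow (p + Q)
    rw [← Ideal.mul_unit_mem_iff_mem _ hu]
    convert! Ideal.mem_map_of_mem (X.presheaf.map (homOfLE hr).op).hom hQ using 1
    show _ = resO X hr (r ^ Q * a)
    rw [map_mul, map_pow, ← hpa, pow_add]; ring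

/-- The ideal of the zero scheme on an affine open. -/
theorem ideal_zeroScheme (hL : PicF.IsInvertible L) (U : X.affineOpens) :
    (PicF2.zeroScheme L s).ideal U = (PicF2.zeroIdealOn L s U.1 : Ideal Γ(X, U)) := by
  let I : X.IdealSheafData :=
    ⟨fun U => PicF2.zeroIdealOn L s U.1, fun U r => map_zeroIdealOn s hL U r, _, rfl⟩
  exact congr($(Scheme.IdealSheafData.ofIdeals_ideal I).ideal U)

/-- The ideal of the zero scheme on an affine open with a generator. -/
theorem ideal_zeroScheme_eq_span (hL : PicF.IsInvertible L) (U : X.affineOpens) {e : Γ(L, U.1)} (he : IsGen e)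
    {c : Γ(X, U.1)} (hc : val s U.1 = c • e) : (PicF2.zeroScheme L s).ideal U = Ideal.span {c} :=
  (ideal_zeroScheme s hL U).trans (zeroIdealOn_eq_span s he hc)

end ZeroSch
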